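import Groth.Agent.Lib.Compl.Complete
import Groth.Agent.Lib.KrasnerH7.Basic
import Groth.Agent.Lib.Hens.System
import Groth.Agent.Lib.Hens.Local
import Mathlib.RingTheory.DiscreteValuationRing.Basic
import Mathlib.RingTheory.AdjoinRoot
import Mathlib.FieldTheory.Minpoly.IsIntegrallyClosed
import Mathlib.FieldTheory.SeparableClosure
import Mathlib.FieldTheory.PrimitiveElement

/-!
# Separable extensions of the fraction fields of a henselian discrete valuation ring and of its completion
-/

set_option autoImplicit false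
set_option linter.unusedSectionVars false

universe u

open Polynomial
open scoped TensorProduct

namespace Groth.Agent.HensFEt16

variable {R C : Type u} [CommRing R] [IsDomain R] [IsDiscreteValuationRing R] [HenselianLocalRing R]
  [CommRing C] [IsDomain C] [IsDiscreteValuationRing C] [Algebra R C]
  {π : R} (hπ : Irreducible π) (hπC : Irreducible (algebraMap R C π))

include hπ hπC in
theorem pow_dvd_of_map {n : ℕ} {a : R} (h : algebraMap R C π ^ n ∣ algebraMap R C a) : π ^ n ∣ a := by
  rcases eq_or_ne a 0 with rfl | ha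
  · exact dvd_zero _
  obtain ⟨m, u, rfl⟩ := IsDiscreteValuationRing.eq_unit_mul_pow_irreducible ha hπ
  refine Dvd.dvd.mul_left (pow_dvd_pow _ ?_) _
  rw [map_mul, map_pow, IsUnit.dvd_mul_left (u.isUnit.map _)] at h
  exact (pow_dvd_pow_iff hπC.ne_zero hπC.not_isUnit).1 h

/-- Units are stable under perturbation. -/
theorem isUnit_of_dvd_sub {B : Type*} [CommRing B] [IsLocalRing B] {ϖ x y : B} (hϖ : ¬ IsUnit ϖ) (hy : IsUnit y)
    (h : ϖ ∣ x - y) : IsUnit x := by
  by_contra hx
  have h1 : x - y ∈ IsLocalRing.maximalIdeal B := Ideal.mem_of_dvd _ h hϖ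
  have h2 := Ideal.sub_mem _ (show x ∈ IsLocalRing.maximalIdeal B from hx) h1
  rw [sub_sub_cancel] at h2
  exact h2 hy

include hπ hπC in
/-- Integral separable elements of the completion come from the henselian ring. -/
theorem exists_root_eq (happrox : ∀ (n : ℕ) (x : C), ∃ a : R, algebraMap R C π ^ n ∣ x - algebraMap R C a)
    (g : R[X]) (γ : C) (hg : (g.map (algebraMap R C)).eval γ = 0)
    (hd : (g.derivative.map (algebraMap R C)).eval γ ≠ 0) : ∃ r : R, algebraMap R C r = γ := by
  let i := algebraMap R C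
  let ϖ := i π
  let gC := g.map i
  have hd' : gC.derivative.eval γ ≠ 0 := by rwa [derivative_map]
  obtain ⟨c, u, hu⟩ := IsDiscreteValuationRing.eq_unit_mul_pow_irreducible hd' hπC
  obtain ⟨a, ha⟩ := happrox (2 * c + 1) γ
  have ha' : ϖ ^ (2 * c + 1) ∣ i a - γ := dvd_sub_comm.1 ha
  have hev : ∀ (p : R[X]) (x : R), (p.map i).eval (i x) = i (p.eval x) := fun p x => eval_map_apply i x
  have h1 : ϖ ^ (2 * c + 1) ∣ i (g.eval a) := by
    have := ha'.trans (sub_dvd_eval_sub (i a) γ gC)
    rwa [hg, sub_zero, hev] at this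
  obtain ⟨s, hs⟩ := pow_dvd_of_map hπ hπC h1
  obtain ⟨z, hz⟩ : ϖ ^ (2 * c + 1) ∣ i (g.derivative.eval a) - gC.derivative.eval γ := by
    have := ha'.trans (sub_dvd_eval_sub (i a) γ (g.derivative.map i))
    rwa [hev, ← derivative_map] at this
  have h2 : ϖ ^ c ∣ i (g.derivative.eval a) := by
    rw [sub_eq_iff_eq_add.1 hz, hu]
    exact dvd_add (dvd_mul_of_dvd_left (pow_dvd_pow _ (by omega)) _) (dvd_mul_left _ _)
  obtain ⟨w, hw⟩ := pow_dvd_of_map hπ hπC h2
  have hwu : IsUnit w := by
    have e : i w = ϖ ^ (c + 1) * z + u := mul_left_cancel₀ (pow_ne_zero c hπC.ne_zero) (by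
      rw [mul_add, ← mul_assoc, ← pow_add, show c + (c + 1) = 2 * c + 1 by omega]
      calc ϖ ^ c * i w = i (g.derivative.eval a) := by rw [hw, map_mul, map_pow]
        _ = _ := by rw [sub_eq_iff_eq_add.1 hz, hu]; ring)
    by_contra hnu
    obtain ⟨w', hw'⟩ : π ∣ w := by
      have : w ∈ IsLocalRing.maximalIdeal R := hnu
      rwa [hπ.maximalIdeal_eq, Ideal.mem_span_singleton] at this
    refine hπC.not_isUnit (isUnit_of_mul_isUnit_left (y := i w') ?_)
    have hu' : IsUnit (i w) := isUnit_of_dvd_sub hπC.not_isUnit u.isUnit ⟨ϖ ^ c * z, by rw [e, pow_succ]; ring⟩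
    rwa [hw', map_mul] at hu'
  -- the rescaled polynomial has a simple root modulo the maximal ideal
  obtain ⟨k, hk⟩ := binomExpansion (g.map Polynomial.C) (Polynomial.C a) (Polynomial.C (π ^ c) * X)
  let h : R[X] := Polynomial.C (π * s) + Polynomial.C w * X + k * X ^ 2
  have hh : ∀ t : R, g.eval (a + π ^ c * t) = π ^ (2 * c) * h.eval t := fun t => by
    have := congrArg (Polynomial.eval t) hk
    rw [derivative_map, eval_map_apply, eval_map_apply] at this
    simp only [eval_add, eval_mul, eval_pow, eval_C, eval_X] at this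
    have e : ((g.map Polynomial.C).eval (Polynomial.C a + Polynomial.C (π ^ c) * X)).eval t =
        g.eval (a + π ^ c * t) := by
      rw [eval_map]
      exact (eval_comp).trans (by simp)
    rw [e] at this
    rw [this, hs, hw]
    simp only [h, eval_add, eval_mul, eval_C, eval_X, eval_pow]
    ring
  obtain ⟨t, ht, htm⟩ := Hens.exists_root_of_simple (Hens.henselianLocalRing_iff.1 ‹_›) h 0
    (by
      rw [hπ.maximalIdeal_eq, Ideal.mem_span_singleton]
      exact ⟨s, by simp [h]⟩)
    (by
      refine IsUnit.map _ ?_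
      simpa [h, derivative_add, derivative_mul] using hwu)
  obtain ⟨t', rfl⟩ : π ∣ t := by
    rwa [sub_zero, hπ.maximalIdeal_eq, Ideal.mem_span_singleton] at htm
  refine ⟨a + π ^ c * (π * t'), ?_⟩
  let r := a + π ^ c * (π * t')
  have hr : gC.eval (i r) = 0 := by
    show (g.map i).eval (i r) = 0
    rw [hev, hh, show h.eval (π * t') = 0 from ht, mul_zero, map_zero]
  have hdiv : ϖ ^ (c + 1) ∣ i r - γ := by
    have e : i r - γ = (i a - γ) + ϖ ^ (c + 1) * i t' := by
      simp only [r, map_add, map_mul, map_pow]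
      ring
    rw [e]
    exact dvd_add ((pow_dvd_pow _ (by omega)).trans ha') (dvd_mul_right _ _)
  obtain ⟨l, hl⟩ := binomExpansion gC γ (i r - γ)
  rw [add_sub_cancel, hr, hg, zero_add, hu, pow_two, ← mul_assoc l, ← add_mul] at hl
  rcases mul_eq_zero.1 hl.symm with h0 | h0
  · exfalso
    obtain ⟨d, hd⟩ := hdiv
    rw [hd, show (u : C) * ϖ ^ c + l * (ϖ ^ (c + 1) * d) = ϖ ^ c * (u + ϖ * (l * d)) by ring] at h0
    have h3 : ϖ ∣ (u : C) := ⟨-(l * d), by
      linear_combination (mul_eq_zero.1 h0).resolve_left (pow_ne_zero _ hπC.ne_zero)⟩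
    exact hπC.not_isUnit (isUnit_of_dvd_unit h3 u.isUnit)
  · exact sub_eq_zero.1 h0

variable {K Kh : Type u} [Field K] [Field Kh] [Algebra R K] [IsFractionRing R K] [Algebra C Kh] [IsFractionRing C Kh]
  [Algebra R Kh] [IsScalarTower R C Kh] [Algebra K Kh] [IsScalarTower R K Kh]

include hπ hπC in
/-- The fraction field is separably closed in that of the completion. -/
theorem mem_range_of_isSeparable (happrox : ∀ (n : ℕ) (x : C), ∃ a : R, algebraMap R C π ^ n ∣ x - algebraMap R C a)
    (x : Kh) (hx : IsSeparable K x) : x ∈ Set.range (algebraMap K Kh) := by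
  have halg : IsAlgebraic R x := (IsFractionRing.isAlgebraic_iff R K Kh).2 hx.isIntegral.isAlgebraic
  obtain ⟨b, hb0, hb⟩ := halg.exists_integral_multiple
  let B : K := algebraMap R K b
  have hB : B ≠ 0 := IsFractionRing.to_map_ne_zero_of_mem_nonZeroDivisors (mem_nonZeroDivisors_of_ne_zero hb0)
  have hy : b • x = algebraMap K Kh B * x := by
    rw [Algebra.smul_def, IsScalarTower.algebraMap_apply R K Kh]
  have hsep : IsSeparable K (b • x) := by
    rw [hy]
    exact Field.isSeparable_mul (isSeparable_algebraMap B) hx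
  obtain ⟨γ, hγ⟩ := IsIntegrallyClosed.isIntegral_iff.1 (hb.tower_top (A := C))
  let g := minpoly R (b • x)
  have hgK : minpoly K (b • x) = g.map (algebraMap R K) := minpoly.isIntegrallyClosed_eq_field_fractions K Kh hb
  have hinj : Function.Injective (algebraMap C Kh) := IsFractionRing.injective C Kh
  have hmap : ∀ p : R[X], algebraMap C Kh ((p.map (algebraMap R C)).eval γ) = aeval (b • x) p := fun p => by
    rw [eval_map, ← aeval_def, ← hγ, aeval_algebraMap_apply]
  obtain ⟨r, hr⟩ := exists_root_eq hπ hπC happrox g γ (hinj (by rw [hmap, minpoly.aeval, map_zero])) fun h0 => by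
    have h1 := Polynomial.Separable.aeval_derivative_ne_zero hsep (minpoly.aeval K (b • x))
    rw [hgK, derivative_map, aeval_map_algebraMap, ← hmap, h0, map_zero] at h1
    exact h1 rfl
  refine ⟨algebraMap R K r / B, ?_⟩
  have hBK : algebraMap K Kh B ≠ 0 := (_root_.map_ne_zero _).2 hB
  rw [map_div₀, div_eq_iff hBK, mul_comm x, ← hy, ← IsScalarTower.algebraMap_apply,
    IsScalarTower.algebraMap_apply R C Kh, hr, hγ]

include hπ hπC in
/-- Separable irreducible polynomials stay irreducible. -/
theorem irreducible_map (happrox : ∀ (n : ℕ) (x : C), ∃ a : R, algebraMap R C π ^ n ∣ x - algebraMap R C a)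
    {f : K[X]} (hm : f.Monic) (hf : Irreducible f) (hs : f.Separable) : Irreducible (f.map (algebraMap K Kh)) := by
  classical
  let fh := f.map (algebraMap K Kh)
  have hfh : fh.Monic := hm.map _
  have h1 : fh ≠ 1 := fun h => hf.natDegree_pos.ne' (by
    rw [← natDegree_map (algebraMap K Kh)]; show fh.natDegree = 0; rw [h, natDegree_one])
  refine (hfh.irreducible_iff_natDegree.2 ⟨h1, fun p q hp hq hpq => ?_⟩)
  let E := fh.SplittingField
  have hlift : ∀ p : Kh[X], p.Monic → p ∣ fh → ∃ p₀ : K[X], p₀.map (algebraMap K Kh) = p := fun p hp hdvd => by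
    rw [← mem_lifts, lifts_iff_coeff_lifts]
    intro j
    let pE := p.map (algebraMap Kh E)
    have hsplit : pE.Splits := Splits.of_dvd (SplittingField.splits fh) (Polynomial.map_ne_zero hfh.ne_zero)
      ((Polynomial.map_dvd_map' _).2 hdvd)
    let sc := separableClosure K E
    have hroots : ∀ ρ ∈ pE.roots, ρ ∈ sc := fun ρ hρ => by
      rw [mem_separableClosure_iff]
      have h0 : aeval ρ f = 0 := by
        rw [← aeval_map_algebraMap Kh]
        obtain ⟨q, hq⟩ := hdvd
        show aeval ρ fh = 0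
        refine (congrArg (aeval ρ) hq).trans ?_
        rw [map_mul, aeval_def, ← eval_map, show (p.map (algebraMap Kh E)).eval ρ = 0 from
          (mem_roots'.1 hρ).2, zero_mul]
      exact hs.of_dvd (minpoly.dvd K ρ h0)
    have hprod : (pE.roots.map fun ρ => X - Polynomial.C ρ).prod ∈ lifts (sc.val.toRingHom) := by
      refine Subsemiring.multiset_prod_mem _ _ fun q hq => ?_
      obtain ⟨ρ, hρ, rfl⟩ := Multiset.mem_map.1 hq
      rw [mem_lifts]
      exact ⟨X - Polynomial.C ⟨ρ, hroots ρ hρ⟩, by simp⟩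
    rw [← Splits.eq_prod_roots_of_monic hsplit (hp.map _), lifts_iff_coeff_lifts] at hprod
    obtain ⟨y, hy⟩ := hprod j
    refine mem_range_of_isSeparable hπ hπC happrox _ ?_
    have hsep : IsSeparable K (algebraMap Kh E (p.coeff j)) := by
      rw [← coeff_map, ← hy]
      exact mem_separableClosure_iff.1 y.2
    show (minpoly K (p.coeff j)).Separable
    rw [← minpoly.algHom_eq (IsScalarTower.toAlgHom K Kh E) (algebraMap Kh E).injective]
    exact hsep
  obtain ⟨p₀, hp₀⟩ := hlift p hp ⟨q, hpq.symm⟩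
  obtain ⟨q₀, hq₀⟩ := hlift q hq ⟨p, (hpq.symm.trans (mul_comm p q))⟩
  have hi := (algebraMap K Kh).injective
  have hp₀m : p₀.Monic := monic_of_injective hi (by rwa [hp₀])
  have hq₀m : q₀.Monic := monic_of_injective hi (by rwa [hq₀])
  have e : p₀ * q₀ = f := map_injective _ hi (by rw [Polynomial.map_mul, hp₀, hq₀, hpq])
  rcases (hm.irreducible_iff_natDegree.1 hf).2 p₀ q₀ hp₀m hq₀m e with h | h
  · exact Or.inl (by rw [← hp₀, natDegree_map, h])
  · exact Or.inr (by rw [← hq₀, natDegree_map, h])

include hπ hπC in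
/-- Base change of a separable extension is a field. -/
theorem isField_tensor (happrox : ∀ (n : ℕ) (x : C), ∃ a : R, algebraMap R C π ^ n ∣ x - algebraMap R C a)
    (L : Type u) [Field L] [Algebra K L] [FiniteDimensional K L] [Algebra.IsSeparable K L] :
    IsField (Kh ⊗[K] L) := by
  obtain ⟨θ, hθ⟩ := Field.exists_primitive_element K L
  have hint : IsIntegral K θ := IsIntegral.of_finite K θ
  let f := minpoly K θ
  let fh := f.map (algebraMap K Kh)
  haveI : Fact (Irreducible fh) := ⟨irreducible_map hπ hπC happrox (minpoly.monic hint) (minpoly.irreducible hint)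
    (Algebra.IsSeparable.isSeparable K θ)⟩
  have hroot : aeval ((1 : Kh) ⊗ₜ[K] θ) fh = 0 := by
    rw [aeval_map_algebraMap]
    show aeval (Algebra.TensorProduct.includeRight (R := K) (A := Kh) θ) f = 0
    rw [aeval_algHom_apply, minpoly.aeval, map_zero]
  let φ : AdjoinRoot fh →ₐ[Kh] Kh ⊗[K] L :=
    AdjoinRoot.liftAlgHom fh (Algebra.ofId Kh _) ((1 : Kh) ⊗ₜ[K] θ) hroot
  have hinj : Function.Injective φ := φ.toRingHom.injective
  have hdim : Module.finrank Kh (AdjoinRoot fh) = Module.finrank Kh (Kh ⊗[K] L) := by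
    rw [Module.finrank_baseChange, (AdjoinRoot.powerBasis (Fact.out : Irreducible fh).ne_zero).finrank,
      AdjoinRoot.powerBasis_dim, natDegree_map, ← IntermediateField.adjoin.finrank hint, hθ,
      IntermediateField.finrank_top']
  haveI : FiniteDimensional Kh (AdjoinRoot fh) :=
    (AdjoinRoot.powerBasis (Fact.out : Irreducible fh).ne_zero).finite
  have hsurj : Function.Surjective φ.toLinearMap :=
    (LinearMap.injective_iff_surjective_of_finrank_eq_finrank hdim).1 hinj
  exact MulEquiv.isField (Field.toIsField (AdjoinRoot fh)) (RingEquiv.ofBijective φ ⟨hinj, hsurj⟩).symm.toMulEquiv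

omit [HenselianLocalRing R] in
include hπ hπC in
/-- Separable extensions of the completed field descend. -/
theorem exists_descend [IsAdicComplete (Ideal.span {algebraMap R C π}) C]
    (happrox : ∀ (n : ℕ) (x : C), ∃ a : R, algebraMap R C π ^ n ∣ x - algebraMap R C a)
    (L : Type u) [Field L] [Algebra Kh L] [FiniteDimensional Kh L] [Algebra.IsSeparable Kh L] :
    ∃ (B : Type u) (_ : Field B) (_ : Algebra K B),
      Module.Finite K B ∧ Algebra.IsSeparable K B ∧ Nonempty (Kh ⊗[K] B ≃ₐ[Kh] L) := by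
  classical
  let ϖ := algebraMap R C π
  letI : Algebra C L := ((algebraMap Kh L).comp (algebraMap C Kh)).toAlgebra
  haveI : IsScalarTower C Kh L := IsScalarTower.of_algebraMap_eq fun _ => rfl
  obtain ⟨α₀, hα₀⟩ := Field.exists_primitive_element Kh L
  have hα₀a : IsAlgebraic C α₀ := (IsFractionRing.isAlgebraic_iff C Kh L).2 (Algebra.IsAlgebraic.isAlgebraic α₀)
  obtain ⟨b, hb0, hb⟩ := hα₀a.exists_integral_multiple
  let α := b • α₀
  let f := minpoly C α
  have hfK : minpoly Kh α = f.map (algebraMap C Kh) := minpoly.isIntegrallyClosed_eq_field_fractions Kh L hb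
  have hαK : IsIntegral Kh α := IsIntegral.of_finite Kh α
  have hgen : IntermediateField.adjoin Kh {α} = ⊤ := by
    rw [eq_top_iff, ← hα₀, IntermediateField.adjoin_simple_le_iff]
    have hmem := IntermediateField.mem_adjoin_simple_self Kh α
    have hb' : (algebraMap Kh L) (algebraMap C Kh b) ≠ 0 :=
      (_root_.map_ne_zero _).2 (IsFractionRing.to_map_ne_zero_of_mem_nonZeroDivisors (mem_nonZeroDivisors_of_ne_zero hb0))
    have e : α₀ = ((algebraMap Kh L) (algebraMap C Kh b))⁻¹ * α := by
      rw [show α = b • α₀ from rfl, Algebra.smul_def, IsScalarTower.algebraMap_apply C Kh L, ← mul_assoc,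
        inv_mul_cancel₀ hb', one_mul]
    rw [e]
    exact mul_mem (inv_mem (IntermediateField.algebraMap_mem _ _)) hmem
  have hd : f.natDegree = Module.finrank Kh L := by
    rw [← natDegree_map_eq_of_injective (IsFractionRing.injective C Kh) f, ← hfK,
      ← IntermediateField.adjoin.finrank hαK, hgen, IntermediateField.finrank_top']
  have hfm : f.Monic := minpoly.monic hb
  -- an identity witnessing separability
  obtain ⟨a', b', hab⟩ := (Algebra.IsSeparable.isSeparable Kh α : (minpoly Kh α).Separable)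
  rw [hfK, derivative_map] at hab
  obtain ⟨na, hnam, hna⟩ := IsLocalization.integerNormalization_spec (nonZeroDivisors C) a'
  obtain ⟨nb, hnbm, hnb⟩ := IsLocalization.integerNormalization_spec (nonZeroDivisors C) b'
  let A₁ := Polynomial.C (nb : C) * IsLocalization.integerNormalization (nonZeroDivisors C) a'
  let B₁ := Polynomial.C (na : C) * IsLocalization.integerNormalization (nonZeroDivisors C) b'
  have hident : A₁ * f + B₁ * derivative f = Polynomial.C ((na : C) * nb) := by
    apply map_injective _ (IsFractionRing.injective C Kh)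
    have ea : (IsLocalization.integerNormalization (nonZeroDivisors C) a').map (algebraMap C Kh) =
        Polynomial.C (algebraMap C Kh na) * a' := by
      rw [hna, Algebra.smul_def, Polynomial.algebraMap_apply]
    have eb : (IsLocalization.integerNormalization (nonZeroDivisors C) b').map (algebraMap C Kh) =
        Polynomial.C (algebraMap C Kh nb) * b' := by
      rw [hnb, Algebra.smul_def, Polynomial.algebraMap_apply]
    simp only [A₁, B₁, Polynomial.map_add, Polynomial.map_mul, map_C, ea, eb, map_mul]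
    linear_combination (Polynomial.C (algebraMap C Kh na) * Polynomial.C (algebraMap C Kh nb)) * hab
  obtain ⟨κ, un, hun⟩ := IsDiscreteValuationRing.eq_unit_mul_pow_irreducible
    (mul_ne_zero (nonZeroDivisors.ne_zero hnam) (nonZeroDivisors.ne_zero hnbm)) hπC
  -- approximate the polynomial
  let m := 2 * κ + 1
  choose c hc using fun j => happrox m (f.coeff j)
  let g : R[X] := X ^ f.natDegree + ∑ j ∈ Finset.range f.natDegree, Polynomial.C (c j) * X ^ j
  have hdeglt : (∑ j ∈ Finset.range f.natDegree, Polynomial.C (c j) * X ^ j).degree < (f.natDegree : WithBot ℕ) := by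
    refine lt_of_le_of_lt (degree_sum_le _ _) ((Finset.sup_lt_iff (WithBot.bot_lt_coe _)).2 fun j hj => ?_)
    exact lt_of_le_of_lt (degree_C_mul_X_pow_le j _) (WithBot.coe_lt_coe.2 (Finset.mem_range.1 hj))
  have hgm : g.Monic := monic_X_pow_add hdeglt
  have hgd : g.natDegree = f.natDegree := by
    refine natDegree_eq_of_degree_eq_some ?_
    rw [degree_add_eq_left_of_degree_lt (by rwa [degree_X_pow]), degree_X_pow]
  let gC := g.map (algebraMap R C)
  have hgCm : gC.Monic := hgm.map _
  have hdiff : Polynomial.C (ϖ ^ m) ∣ f - gC := by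
    conv_rhs => rw [hfm.as_sum]
    simp only [gC, g, Polynomial.map_add, Polynomial.map_pow, map_X, Polynomial.map_sum, Polynomial.map_mul, map_C]
    rw [add_sub_add_left_eq_sub, ← Finset.sum_sub_distrib]
    refine Finset.dvd_sum fun j _ => ?_
    rw [← sub_mul, ← map_sub]
    exact dvd_mul_of_dvd_left (_root_.map_dvd Polynomial.C (hc j)) _
  let Cg := AdjoinRoot gC
  let ι := algebraMap C Cg
  haveI : Module.Finite C Cg := (AdjoinRoot.powerBasis' hgCm).finite
  haveI : IsAdicComplete (Ideal.span {ϖ}) Cg := Compl.isAdicComplete_of_finite (Ideal.span {ϖ}) Cg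
  haveI : IsAdicComplete (Ideal.span {ι ϖ}) Cg := by
    have h := (IsAdicComplete.map_algebraMap_iff (S := Cg) (Ideal.span {ϖ}) Cg).2 ‹IsAdicComplete (Ideal.span {ϖ}) Cg›
    rw [Ideal.map_span, Set.image_singleton] at h
    exact h
  let a₀ : Cg := AdjoinRoot.root gC
  let fg := f.map ι
  have hev : ∀ p : C[X], (p.map ι).eval a₀ = AdjoinRoot.mk gC p := fun p => by
    rw [eval_map, ← aeval_def, AdjoinRoot.aeval_eq]
  obtain ⟨d, hd'⟩ : ι ϖ ^ m ∣ fg.eval a₀ := by
    obtain ⟨d, hd'⟩ := hdiff
    refine ⟨AdjoinRoot.mk gC d, ?_⟩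
    rw [hev, ← sub_add_cancel f gC, map_add, AdjoinRoot.mk_self, add_zero, hd', map_mul, AdjoinRoot.mk_C]
    simp only [map_pow]
    rfl
  have hunit : ∀ y : Cg, IsUnit (1 + ι ϖ * y) := fun y => by
    have h := IsAdicComplete.le_jacobson_bot (Ideal.span {ι ϖ}) (Ideal.mem_span_singleton_self _)
    rw [Ideal.mem_jacobson_bot] at h
    have := h y
    rwa [add_comm] at this
  let Bv := AdjoinRoot.mk gC B₁
  let Av := AdjoinRoot.mk gC A₁
  have hid : Av * fg.eval a₀ + Bv * fg.derivative.eval a₀ = ι (un : C) * ι ϖ ^ κ := by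
    rw [derivative_map, hev, hev, ← map_mul, ← map_mul, ← map_add, hident, hun, AdjoinRoot.mk_C]
    simp only [map_mul, map_pow]
    rfl
  have hfactor : Bv * fg.derivative.eval a₀ =
      ι (un : C) * ι ϖ ^ κ * (1 + ι ϖ * (-(ι (↑un⁻¹ : C) * ι ϖ ^ κ * Av * d))) := by
    have h1 : ι (un : C) * ι (↑un⁻¹ : C) = 1 := by rw [← map_mul, Units.mul_inv, map_one]
    have e : m = κ + (κ + 1) := by omega
    rw [hd', e, pow_add, pow_succ] at hid
    linear_combination hid + ι ϖ ^ κ * ι ϖ ^ κ * ι ϖ * Av * d * h1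
  obtain ⟨v, hv⟩ := (hunit (-(ι (↑un⁻¹ : C) * ι ϖ ^ κ * Av * d))).exists_right_inv
  have he : fg.derivative.eval a₀ * (Bv * ι (↑un⁻¹ : C) * v) = ι ϖ ^ κ := by
    calc fg.derivative.eval a₀ * (Bv * ι (↑un⁻¹ : C) * v) = (Bv * fg.derivative.eval a₀) * ι (↑un⁻¹ : C) * v := by ring
      _ = (ι (un : C) * ι (↑un⁻¹ : C)) * ι ϖ ^ κ * ((1 + ι ϖ * (-(ι (↑un⁻¹ : C) * ι ϖ ^ κ * Av * d))) * v) := by
        rw [hfactor]; ring
      _ = ι ϖ ^ κ := by rw [hv, ← map_mul, Units.mul_inv, map_one, one_mul, mul_one]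
  obtain ⟨β, hβ, -⟩ := KrasnerH7.exists_root (ι ϖ) fg a₀ _ κ m he (le_refl _) ⟨d, hd'⟩
  -- the derivative of the approximation is invertible over the field
  let gK := g.map (algebraMap R K)
  let gh := gK.map (algebraMap K Kh)
  have hgh : gC.map (algebraMap C Kh) = gh := by
    simp only [gC, gh, gK, Polynomial.map_map, ← IsScalarTower.algebraMap_eq]
  let ψ : Cg →+* AdjoinRoot gh := AdjoinRoot.lift ((AdjoinRoot.of gh).comp (algebraMap C Kh)) (AdjoinRoot.root gh) (by
    rw [← eval₂_map, hgh, AdjoinRoot.eval₂_root])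
  have hψC : ∀ x : C, ψ (ι x) = AdjoinRoot.of gh (algebraMap C Kh x) := fun x => AdjoinRoot.lift_of _
  have hsep : gK.Separable := by
    rw [← separable_map (algebraMap K Kh)]
    show gh.Separable
    obtain ⟨w, hw⟩ : ∃ w, fg.derivative.eval a₀ = AdjoinRoot.mk gC (derivative gC) + ι ϖ ^ m * w := by
      obtain ⟨d₂, hd₂⟩ := hdiff
      refine ⟨AdjoinRoot.mk gC (derivative d₂), ?_⟩
      rw [derivative_map, hev, ← sub_add_cancel f gC, derivative_add, hd₂, derivative_C_mul, map_add, map_mul,
        AdjoinRoot.mk_C, add_comm]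
      simp only [map_pow]
      rfl
    have hu : IsUnit (ψ (AdjoinRoot.mk gC (derivative gC))) := by
      let e := Bv * ι (↑un⁻¹ : C) * v
      have e1 : AdjoinRoot.mk gC (derivative gC) * e = ι ϖ ^ κ * (1 + ι ϖ * (-(ι ϖ ^ κ * w * e))) := by
        have e2 : m = κ + (κ + 1) := by omega
        rw [hw, e2, pow_add, pow_succ] at he
        linear_combination he
      have h1 : IsUnit (ψ (ι ϖ ^ κ)) := by
        rw [map_pow, hψC]
        exact ((IsUnit.mk0 _ (IsFractionRing.to_map_ne_zero_of_mem_nonZeroDivisors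
          (mem_nonZeroDivisors_of_ne_zero hπC.ne_zero))).map _).pow _
      refine isUnit_of_mul_isUnit_left (y := ψ e) ?_
      rw [← map_mul, e1, map_mul]
      exact h1.mul ((hunit _).map ψ)
    have hψmk : ψ (AdjoinRoot.mk gC (derivative gC)) = AdjoinRoot.mk gh (derivative gh) := by
      rw [AdjoinRoot.lift_mk, ← eval₂_map, ← derivative_map, hgh, ← AdjoinRoot.aeval_eq, aeval_def]
      rfl
    obtain ⟨q, hq⟩ := (hψmk ▸ hu).exists_right_inv
    obtain ⟨q₀, rfl⟩ := AdjoinRoot.mk_surjective q
    rw [← map_mul, ← map_one (AdjoinRoot.mk gh), AdjoinRoot.mk_eq_mk] at hq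
    obtain ⟨p, hp⟩ := hq
    exact ⟨-p, q₀, by linear_combination hp⟩
  -- the comparison with `L`
  let T := Kh ⊗[K] AdjoinRoot gK
  haveI : FiniteDimensional K (AdjoinRoot gK) := (hgm.map (algebraMap R K)).finite_adjoinRoot
  have hroot : eval₂ (algebraMap C T) ((1 : Kh) ⊗ₜ[K] AdjoinRoot.root gK) gC = 0 := by
    rw [IsScalarTower.algebraMap_eq C Kh T, ← eval₂_map, hgh, ← aeval_def, aeval_map_algebraMap]
    show aeval (Algebra.TensorProduct.includeRight (R := K) (A := Kh) (AdjoinRoot.root gK)) gK = 0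
    rw [aeval_algHom_apply, AdjoinRoot.aeval_eq, AdjoinRoot.mk_self, map_zero]
  let χ : Cg →ₐ[C] T := AdjoinRoot.liftAlgHom gC (Algebra.ofId C T) _ hroot
  have hα : aeval (χ β) (minpoly Kh α) = 0 := by
    rw [hfK, aeval_map_algebraMap, aeval_algHom_apply, aeval_def, ← eval_map, hβ, map_zero]
  let Φ : AdjoinRoot (minpoly Kh α) →ₐ[Kh] T := AdjoinRoot.liftAlgHom _ (Algebra.ofId Kh _) (χ β) hα
  haveI : Fact (Irreducible (minpoly Kh α)) := ⟨minpoly.irreducible hαK⟩
  haveI : FiniteDimensional Kh (AdjoinRoot (minpoly Kh α)) := (minpoly.monic hαK).finite_adjoinRoot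
  have hdT : Module.finrank Kh T = f.natDegree := by
    rw [Module.finrank_baseChange, (AdjoinRoot.powerBasis' (hgm.map (algebraMap R K))).finrank,
      AdjoinRoot.powerBasis'_dim, hgm.natDegree_map, hgd]
  haveI : Nontrivial T := Module.nontrivial_of_finrank_pos (R := Kh) (by rw [hdT, hd]; exact Module.finrank_pos)
  have hinj : Function.Injective Φ := Φ.toRingHom.injective
  have hdim : Module.finrank Kh (AdjoinRoot (minpoly Kh α)) = Module.finrank Kh T := by
    rw [hdT, (AdjoinRoot.powerBasis' (minpoly.monic hαK)).finrank, AdjoinRoot.powerBasis'_dim, hfK,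
      hfm.natDegree_map]
  let eΦ : AdjoinRoot (minpoly Kh α) ≃ₐ[Kh] T := AlgEquiv.ofBijective Φ
    ⟨hinj, (LinearMap.injective_iff_surjective_of_finrank_eq_finrank (f := Φ.toLinearMap) hdim).1 hinj⟩
  let eL : AdjoinRoot (minpoly Kh α) ≃ₐ[Kh] L :=
    (IntermediateField.adjoinRootEquivAdjoin Kh hαK).trans
      ((IntermediateField.equivOfEq hgen).trans IntermediateField.topEquiv)
  have hirr : Irreducible gK := by
    let j : AdjoinRoot gK →+* AdjoinRoot (minpoly Kh α) :=
      eΦ.symm.toAlgHom.toRingHom.comp (Algebra.TensorProduct.includeRight (R := K) (A := Kh)).toRingHom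
    have hj : Function.Injective j := eΦ.symm.injective.comp
      (Algebra.TensorProduct.includeRight_injective (algebraMap K Kh).injective)
    haveI : IsDomain (AdjoinRoot gK) := hj.isDomain j
    have hprime : Prime gK := by
      rw [← Ideal.span_singleton_prime (hgm.map _).ne_zero]
      exact (Ideal.Quotient.isDomain_iff_prime _).1 ‹IsDomain (AdjoinRoot gK)›
    exact hprime.irreducible
  haveI : Fact (Irreducible gK) := ⟨hirr⟩
  refine ⟨AdjoinRoot gK, inferInstance, inferInstance, inferInstance, ?_, ⟨eΦ.symm.trans eL⟩⟩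
  let eI := IntermediateField.adjoinRootEquivAdjoin K (IsIntegral.of_finite K (AdjoinRoot.root gK))
  have hmin : minpoly K (AdjoinRoot.root gK) = gK := by
    rw [AdjoinRoot.minpoly_root hirr.ne_zero, (hgm.map (algebraMap R K)).leadingCoeff, inv_one, map_one, mul_one]
  haveI : Algebra.IsSeparable K (IntermediateField.adjoin K {AdjoinRoot.root gK}) :=
    (IntermediateField.isSeparable_adjoin_simple_iff_isSeparable K _).2 (show (minpoly K (AdjoinRoot.root gK)).Separable by rw [hmin]; exact hsep)
  exact AlgEquiv.Algebra.isSeparable ((IntermediateField.equivOfEq (IntermediateField.adjoin_eq_top_of_algebra K {AdjoinRoot.root gK} AdjoinRoot.adjoinRoot_eq_top)).trans IntermediateField.topEquiv)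

end Groth.Agent.HensFEt16
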