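import Groth.Agent.Lib.HensFEt16.Basic
import Groth.Agent.Lib.FEtEq25.Graph
import Groth.Agent.Lib.FEtLimit25.Field
import Groth.Agent.Lib.RootExt25.Point
import Groth.Agent.Lib.CplLocH7.Basic
import Groth.Agent.S0549
import Mathlib.RingTheory.Etale.Field
import Mathlib.RingTheory.TensorProduct.Pi

/-!
# Finite etale covers of the fraction fields of a henselian discrete valuation ring and of its completion
-/

set_option autoImplicit false
set_option linter.style.haveILetI false
set_option linter.unusedSectionVars false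
set_option backward.isDefEq.respectTransparency.types false

universe u

open CategoryTheory CategoryTheory.Limits AlgebraicGeometry
open scoped TensorProduct

namespace Groth.Agent.HensFEt16

/-- A finite etale cover of the spectrum of a field is the spectrum of a product of separable extensions. -/
theorem exists_pi_model {F : Type u} [Field F] (V : FEt.Cat (Spec (CommRingCat.of F))) :
    ∃ (I : Type u) (_ : Finite I) (L : I → Type u) (_ : ∀ i, Field (L i)) (_ : ∀ i, Algebra F (L i)),
      (∀ i, Module.Finite F (L i) ∧ Algebra.IsSeparable F (L i)) ∧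
      ∃ e : V.left ≅ Spec (CommRingCat.of (∀ i, L i)),
        e.hom ≫ Spec.map (CommRingCat.ofHom (algebraMap F (∀ i, L i))) = V.hom := by
  let v : V.left ⟶ Spec (CommRingCat.of F) := V.hom
  haveI : IsFinite v := V.prop.1
  haveI : Etale v := V.prop.2
  haveI : IsAffine V.left := isAffine_of_isAffineHom v
  let B : Type u := Γ(V.left, ⊤)
  let ψ : CommRingCat.of F ⟶ CommRingCat.of B := Spec.preimage (V.left.isoSpec.inv ≫ v)
  have hψ : Spec.map ψ = V.left.isoSpec.inv ≫ v := Spec.map_preimage _
  letI : Algebra F B := ψ.hom.toAlgebra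
  haveI : IsFinite (Spec.map ψ) := by rw [hψ]; infer_instance
  haveI : Etale (Spec.map ψ) := by rw [hψ]; infer_instance
  haveI : Module.Finite F B := (IsFinite.SpecMap_iff ψ).1 inferInstance
  haveI : Algebra.Etale F B :=
    RingHom.etale_algebraMap.1 ((HasRingHomProperty.Spec_iff (P := @Etale)).1 (inferInstanceAs (Etale (Spec.map ψ))))
  obtain ⟨I, hI, L, hF, hA, e, hL⟩ := (Algebra.Etale.iff_exists_algEquiv_prod F B).1 inferInstance
  let j : Spec (CommRingCat.of B) ≅ Spec (CommRingCat.of (∀ i, L i)) :=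
    Scheme.Spec.mapIso (e.symm.toRingEquiv.toCommRingCatIso).op
  refine ⟨I, hI, L, hF, hA, hL, V.left.isoSpec ≪≫ j, ?_⟩
  have hj : j.hom ≫ Spec.map (CommRingCat.ofHom (algebraMap F (∀ i, L i))) = Spec.map ψ := by
    show Spec.map _ ≫ Spec.map _ = _
    rw [← Spec.map_comp]
    congr 1
    ext x
    exact e.symm.commutes x
  rw [Iso.trans_hom, Category.assoc, hj, hψ, Iso.hom_inv_id_assoc]

variable {R C : Type u} [CommRing R] [IsDomain R] [IsDiscreteValuationRing R] [HenselianLocalRing R]
  [CommRing C] [IsDomain C] [IsDiscreteValuationRing C] [Algebra R C]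
  {π : R} (hπ : Irreducible π) (hπC : Irreducible (algebraMap R C π))
  [IsAdicComplete (Ideal.span {algebraMap R C π}) C]
  (happrox : ∀ (n : ℕ) (x : C), ∃ a : R, algebraMap R C π ^ n ∣ x - algebraMap R C a)
  {K Kh : Type u} [Field K] [Field Kh] [Algebra R K] [IsFractionRing R K] [Algebra C Kh] [IsFractionRing C Kh]
  [Algebra R Kh] [IsScalarTower R C Kh] [Algebra K Kh] [IsScalarTower R K Kh]

include hπ hπC happrox

/-- Clopen subsets of restricted covers come from below. -/
theorem exists_clopen {Z : Scheme.{u}} (h : Z ⟶ Spec (CommRingCat.of K)) (hh : FEt.prop h)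
    (D : Set ↥(pullback h (Spec.map (CommRingCat.ofHom (algebraMap K Kh))))) (hD : IsClopen D) :
    ∃ D₀ : Set Z, IsClopen D₀ ∧ pullback.fst h (Spec.map (CommRingCat.ofHom (algebraMap K Kh))) ⁻¹' D₀ = D := by
  let f := Spec.map (CommRingCat.ofHom (algebraMap K Kh))
  obtain ⟨I, _, L, _, _, hL, e, he⟩ := exists_pi_model (MorphismProperty.Over.mk ⊤ h hh)
  let e' : Z ≅ Spec (CommRingCat.of (∀ i, L i)) := e
  have he' : e'.hom ≫ Spec.map (CommRingCat.ofHom (algebraMap K (∀ i, L i))) = h := he
  haveI : DiscreteTopology Z := e'.hom.homeomorph.isEmbedding.discreteTopology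
  refine ⟨pullback.fst h f '' D, isClopen_discrete _, subset_antisymm ?_ (Set.subset_preimage_image _ _)⟩
  rintro p ⟨p', hp', hpp'⟩
  obtain ⟨i, y, hy⟩ := PrimeSpectrum.exists_comap_evalRingHom_eq (R := L) (e'.hom (pullback.fst h f p))
  let s : Spec (CommRingCat.of (L i)) ⟶ Z :=
    Spec.map (CommRingCat.ofHom (Pi.evalRingHom L i)) ≫ e'.inv
  have hs : s (IsLocalRing.closedPoint (L i)) = pullback.fst h f p := by
    rw [show IsLocalRing.closedPoint (L i) = y from Subsingleton.elim (α := PrimeSpectrum (L i)) _ _]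
    show e'.inv (PrimeSpectrum.comap (Pi.evalRingHom L i) y) = _
    rw [hy, ← Scheme.Hom.comp_apply, Iso.hom_inv_id]
    rfl
  have hsh : s ≫ h = Spec.map (CommRingCat.ofHom (algebraMap K (L i))) := by
    rw [← he']
    simp only [s, Category.assoc, Iso.inv_hom_id_assoc]
    rw [← Spec.map_comp]
    rfl
  haveI := (hL i).1
  haveI := (hL i).2
  haveI : PreconnectedSpace ↥(pullback f (s ≫ h)) := by
    let iso : pullback f (s ≫ h) ≅ Spec (CommRingCat.of (Kh ⊗[K] L i)) :=
      pullback.congrHom rfl hsh ≪≫ pullbackSpecIso K Kh (L i)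
    letI : Field (Kh ⊗[K] L i) := (isField_tensor hπ hπC happrox (L i)).toField
    haveI : Subsingleton ↥(Spec (CommRingCat.of (Kh ⊗[K] L i))) :=
      inferInstanceAs (Subsingleton (PrimeSpectrum (Kh ⊗[K] L i)))
    haveI : Subsingleton ↥(pullback f (s ≫ h)) := iso.hom.homeomorph.injective.subsingleton
    infer_instance
  exact FEtEq25.fibre_subset_or_disjoint f h s hD (hpp'.trans hs.symm) hs.symm hp'

/-- Restriction of finite etale covers to the completed field is an equivalence. -/
theorem isEquivalence_restrict :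
    (FEt.restrict (Spec.map (CommRingCat.ofHom (algebraMap K Kh)))).IsEquivalence := by
  let f := Spec.map (CommRingCat.ofHom (algebraMap K Kh))
  have hT : ∀ S : Set ↥(Spec (CommRingCat.of K)), IsClopen S → S.Nonempty → (S ∩ Set.range f).Nonempty := by
    haveI : Subsingleton ↥(Spec (CommRingCat.of K)) := inferInstanceAs (Subsingleton (PrimeSpectrum K))
    rintro S - ⟨x, hx⟩
    exact ⟨x, hx, (⊥ : PrimeSpectrum Kh), Subsingleton.elim _ _⟩
  refine { faithful := FEtEq25.faithful_restrict f hT
           full := FEtEq25.full_restrict f hT fun {Z} h hh D hD => exists_clopen hπ hπC happrox h hh D hD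
           essSurj := ⟨fun V => ?_⟩ }
  obtain ⟨I, _, L, _, _, hL, eV, heV⟩ := exists_pi_model V
  have hdesc : ∀ i, ∃ (B : Type u) (_ : Field B) (_ : Algebra K B),
      Module.Finite K B ∧ Algebra.IsSeparable K B ∧ Nonempty (Kh ⊗[K] B ≃ₐ[Kh] L i) := fun i =>
    haveI := (hL i).1
    haveI := (hL i).2
    exists_descend hπ hπC happrox (L i)
  choose B hBf hBa hBfin hBsep hBe using hdesc
  letI := fun i => hBf i
  letI := fun i => hBa i
  haveI := fun i => hBfin i
  haveI : Algebra.Etale K (∀ i, B i) := (Algebra.Etale.iff_exists_algEquiv_prod K (∀ i, B i)).2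
    ⟨I, inferInstance, B, inferInstance, inferInstance, AlgEquiv.refl, fun i => ⟨hBfin i, hBsep i⟩⟩
  let C₀ : FEt.Cat (Spec (CommRingCat.of K)) :=
    MorphismProperty.Over.mk ⊤ (Spec.map (CommRingCat.ofHom (algebraMap K (∀ i, B i))))
      ⟨(IsFinite.SpecMap_iff _).2 (RingHom.finite_algebraMap.2 inferInstance),
        (HasRingHomProperty.Spec_iff (P := @Etale)).2 (RingHom.etale_algebraMap.2 inferInstance)⟩
  classical
  haveI : Fintype I := Fintype.ofFinite I
  let ε : Kh ⊗[K] (∀ i, B i) ≃ₐ[Kh] Kh ⊗[Kh] (∀ i, L i) :=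
    ((Algebra.TensorProduct.piRight K Kh Kh B).trans (AlgEquiv.piCongrRight fun i => (hBe i).some)).trans
      (Algebra.TensorProduct.lid Kh (∀ i, L i)).symm
  obtain ⟨i⟩ := RootExt25.nonempty_iso_of_algEquiv ε C₀ (Iso.refl _) (Category.id_comp _) V eV heV
  have hid : Spec.map (CommRingCat.ofHom (algebraMap Kh Kh)) = 𝟙 _ := Spec.map_id _
  haveI : IsIso (Spec.map (CommRingCat.ofHom (algebraMap Kh Kh))) := by rw [hid]; infer_instance
  let v : V.left ⟶ Spec (CommRingCat.of Kh) := V.hom
  haveI : IsIso (pullback.fst v (Spec.map (CommRingCat.ofHom (algebraMap Kh Kh)))) := inferInstance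
  let j := @asIso _ _ _ _ (pullback.fst v (Spec.map (CommRingCat.ofHom (algebraMap Kh Kh)))) this
  refine ⟨C₀, ⟨i ≪≫ MorphismProperty.Over.isoMk j ?_⟩⟩
  show pullback.fst v _ ≫ v = pullback.snd v _
  rw [pullback.condition, hid, Category.comp_id]

omit hπ hπC happrox

/-- The completion data of a discrete valuation ring. -/
theorem completion_props (A : Type u) [CommRing A] [IsDomain A] [IsDiscreteValuationRing A] (ϖ : A) (hϖ : Irreducible ϖ)
    [IsDomain (AdicCompletion (IsLocalRing.maximalIdeal A) A)]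
    [IsDiscreteValuationRing (AdicCompletion (IsLocalRing.maximalIdeal A) A)] :
    Irreducible (algebraMap A (AdicCompletion (IsLocalRing.maximalIdeal A) A) ϖ) ∧
      IsAdicComplete (Ideal.span {algebraMap A (AdicCompletion (IsLocalRing.maximalIdeal A) A) ϖ})
        (AdicCompletion (IsLocalRing.maximalIdeal A) A) ∧
      ∀ (n : ℕ) (x : AdicCompletion (IsLocalRing.maximalIdeal A) A), ∃ a : A,
        algebraMap A (AdicCompletion (IsLocalRing.maximalIdeal A) A) ϖ ^ n ∣
          x - algebraMap A (AdicCompletion (IsLocalRing.maximalIdeal A) A) a := by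
  have hmax : IsLocalRing.maximalIdeal (AdicCompletion (IsLocalRing.maximalIdeal A) A) =
      Ideal.span {algebraMap A (AdicCompletion (IsLocalRing.maximalIdeal A) A) ϖ} := by
    rw [AdicCompletion.maximalIdeal_eq_map, hϖ.maximalIdeal_eq, Ideal.map_span, Set.image_singleton]
  refine ⟨(IsDiscreteValuationRing.irreducible_iff_uniformizer _).2 hmax, hmax ▸ inferInstance, fun n x => ?_⟩
  obtain ⟨a, ha⟩ := CplLocH7.exists_sub_mem_pow (A := A) n x
  refine ⟨a, ?_⟩
  rwa [hmax, Ideal.span_singleton_pow, Ideal.mem_span_singleton] at ha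

end Groth.Agent.HensFEt16
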